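import Cfsg.Agent.Lib.S6.Z5

/-!
# S3133, case III: computations in `Aut E`.
Words in `κ false = 0`, `κ true = 1`, `h = 2`, applied with `foldr` (scratch of helper10).
-/

set_option autoImplicit false
set_option maxRecDepth 100000

namespace Cfsg.Lib.S6.Z

open Equiv

/-- The values on the basis `1, 2, 4, 8, 16, 32, 64`. -/
def Vl (h : Perm E) (l : List E) : Prop := [1, 2, 4, 8, 16, 32, 64].map h = l

/-- The linear map with the given values. -/
def ln (l : List E) (x : E) : E := (List.range 7).foldr (fun i y => if x.1.testBit i then ad (l.getD i 0) y else y) 0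

def ev2 (f : E → E) (w : List ℕ) (x : E) : E := w.foldr (fun n => if n = 2 then f else κ (n == 1)) x

/-- The orbit under the stabilizer of `32`. -/
def ob (x : E) : Finset E := ([[], [1], [0, 1, 0, 0], [1, 0, 1, 0, 0], [0, 1, 0, 0, 1], [1, 0, 1, 0, 0, 1], [0, 1, 0, 0, 1, 0, 1, 0, 0], [0, 0, 1, 0, 0, 1, 0, 1, 0], [1, 0, 1, 0,
  0, 1, 0, 1, 0, 0], [1, 0, 0, 1, 0, 0, 1, 0, 1, 0], [0, 1, 0, 1, 0, 0, 1, 0, 1, 0], [0, 0, 1, 0, 0, 1, 0, 1, 0, 1], [0, 0, 1, 0, 1, 0, 1, 0, 0, 1, 0],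
  [1, 0, 1, 0, 1, 0, 0, 1, 0, 1, 0], [1, 0, 0, 1, 0, 0, 1, 0, 1, 0, 1], [0, 1, 0, 1, 0, 0, 1, 0, 1, 0, 1], [0, 0, 1, 0, 1, 0, 0, 1, 0, 0, 1, 0], [1, 0,
  0, 1, 0, 1, 0, 1, 0, 0, 1, 0], [0, 0, 1, 0, 1, 0, 1, 0, 0, 1, 0, 1], [1, 0, 1, 0, 1, 0, 0, 1, 0, 1, 0, 1], [1, 0, 0, 1, 0, 1, 0, 0, 1, 0, 0, 1, 0],
  [0, 1, 0, 1, 0, 1, 0, 0, 1, 0, 0, 1, 0], [0, 0, 1, 0, 1, 0, 0, 1, 0, 0, 1, 0, 1], [1, 0, 0, 1, 0, 1, 0, 0, 1, 0, 0, 1, 0, 1]].map fun w : List ℕ => ev (w.map (· == 1)) x).toFinset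

theorem pick {F Z : Finset E} {Q R : E → Prop} (c : F.card = 7) (o : ∀ s ∈ F, ob s ⊆ F) (q : ∀ s ∈ F, Q s)
    (d : ∀ s, Q s → R s ∨ 7 < (ob s).card ∨ (Z ∪ ob s).card < 7 ∧ ∀ s', Q s' → s' ∉ Z ∪ ob s → 7 < (ob s ∪ ob s').card) : ∀ s ∈ F, R s := fun s m => by
  rcases d s (q s m) with a | a | ⟨a, b⟩
  · exact a
  · exact absurd (Finset.card_le_card (o s m)) (by omega)
  · obtain ⟨s', p, n⟩ := Finset.exists_mem_notMem_of_card_lt_card (c ▸ a)
    exact absurd (Finset.card_le_card (Finset.union_subset (o s m) (o s' p))) (by have := b s' (q s' p) n; omega)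

namespace Hs
variable {H : Subgroup (Perm E)} (s : Hs H) {h : Perm E} {l : List E}
include s

theorem vl (m : h ∈ H) (e : Vl h l) (x : E) : h x = ln l x := by
  have z : h 0 = 0 := by simpa [show ad 0 0 = 0 from rfl, show ∀ y : E, ad y y = 0 from fun y => Fin.ext (Nat.xor_self _)] using s.add h m 0 0
  nth_rw 1 [← (by decide +kernel : ∀ x, ln [1, 2, 4, 8, 16, 32, 64] x = x) x]
  subst e
  simp only [ln, List.range, List.range.loop, List.foldr, apply_ite h, s.add h m, z]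
  rfl

theorem ev2_mem (m : h ∈ H) (e : Vl h l) (w : List ℕ) : ∃ g ∈ H, ∀ x, g x = ev2 (ln l) w x := by
  induction w with
  | nil => exact ⟨1, one_mem _, fun _ => rfl⟩
  | cons n w ih =>
    obtain ⟨g, a, b⟩ := ih
    obtain ⟨k, c, d⟩ : ∃ k ∈ H, ∀ x, k x = (if n = 2 then ln l else κ (n == 1)) x := by
      split_ifs; exacts [⟨h, m, s.vl m e⟩, s.gen _]
    exact ⟨k * g, mul_mem c a, fun x => by rw [Perm.mul_apply, b, d]; rfl⟩

theorem no_wd (m : h ∈ H) (e : Vl h l) (w : List ℕ) (a : ev2 (ln l) w 64 = 64 ∧ ∃ x, ty (ev2 (ln l) w x) ≠ ty x) : False :=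
  let ⟨g, p, q⟩ := s.ev2_mem m e w
  let ⟨x, r⟩ := a.2
  r (q x ▸ s.fix g p ((q _).trans a.1) x)

/-- The word `[2, 0, 2, 0, 0, 2]` fixes `64` and changes the type of `8`. -/
theorem no_eps (m : h ∈ H) (e : Vl h [1, 3, 5, 9, 16, 32, 65]) : False := s.no_wd m e [2, 0, 2, 0, 0, 2] (by decide +kernel)

/-- The word `[2, 0, 2, 0, 0, 1, 0, 2, 0, 0, 2]` fixes `64` and changes a type. -/
theorem no_sig (m : h ∈ H) (e : Vl h [1, 35, 21, 9, 16, 32, 65]) : False := s.no_wd m e [2, 0, 2, 0, 0, 1, 0, 2, 0, 0, 2] (by decide +kernel)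

/-- The words in `κ` induce `GL(A₀)`. -/
theorem fixA0 (m : h ∈ H) (st : ∀ x, ty x = 2 → ty (h x) = 2) : ∃ k ∈ H, k 64 = 64 ∧ ∀ x, ty x = 2 → h x = k x := by
  obtain ⟨w, a, b, c⟩ : ∃ w, ev w 32 = h 32 ∧ ev w 16 = h 16 ∧ ev w 8 = h 8 := by
    obtain ⟨k1, m1, e1⟩ := s.ev_mem (wd (h 32))
    have t1 : ∀ x, ty (k1⁻¹ x) = ty x := s.fix _ (inv_mem m1) (Perm.inv_eq_iff_eq.2 (by rw [e1, ev_t]))
    have a1 : k1 32 = h 32 := by rw [e1]; nth_rw 2 [← wd_spec (h 32)]; rw [st 32 (by decide +kernel)]; rfl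
    obtain ⟨w2, -, c2⟩ := (by decide +kernel : ∀ b, ty b = 2 → b ≠ 32 → ∃ w ∈ [[true, false, true, false, true, false, false, true, false, true, false], [],
      [false, true, false, true, false, false, true, false, true, false], [true, false, false, true, false, false, true, false, true, false],
      [false, true, false, false], [false, false, true, false, false, true, false, true, false]], ev w 32 = 32 ∧ ev w 16 = b) (k1⁻¹ (h 16))
      ((t1 _).trans (st 16 (by decide +kernel))) fun z => absurd (h.injective ((Perm.inv_eq_iff_eq.1 z).trans a1)) (by decide)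
    obtain ⟨k2, m2, e2⟩ := s.ev_mem (wd (h 32) ++ w2)
    have f2 : ∀ x, k2 x = k1 (ev w2 x) := fun x => by rw [e2, e1, ev, List.foldr_append]; rfl
    have t2 : ∀ x, ty (k2⁻¹ x) = ty x := s.fix _ (inv_mem m2) (Perm.inv_eq_iff_eq.2 (by rw [e2, ev_t]))
    have a2 : k2 32 = h 32 := by rw [f2, c2.1, a1]
    have a2' : k2 16 = h 16 := by rw [f2, c2.2]; simp
    obtain ⟨w3, -, c3⟩ := (by decide +kernel : ∀ b, ty b = 2 → b ≠ 32 → b ≠ 16 → b ≠ ad 32 16 → ∃ w ∈ [[], [true],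
      [true, false, true, false, false, true, false, true, false, false], [false, true, false, false, true, false, true, false, false]],
      ev w 32 = 32 ∧ ev w 16 = 16 ∧ ev w 8 = b) (k2⁻¹ (h 8)) ((t2 _).trans (st 8 (by decide +kernel)))
      (fun z => absurd (h.injective ((Perm.inv_eq_iff_eq.1 z).trans a2)) (by decide))
      (fun z => absurd (h.injective ((Perm.inv_eq_iff_eq.1 z).trans a2')) (by decide))
      fun z => absurd (h.injective ((Perm.inv_eq_iff_eq.1 z).trans (by rw [s.add k2 m2, a2, a2', ← s.add h m]))) (by decide : (8 : E) ≠ ad 32 16)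
    have f3 : ∀ x, ev (wd (h 32) ++ w2 ++ w3) x = k2 (ev w3 x) := fun x => by rw [e2, ev, List.foldr_append]; rfl
    exact ⟨wd (h 32) ++ w2 ++ w3, by rw [f3, c3.1, a2], by rw [f3, c3.2.1, a2'], by rw [f3, c3.2.2]; simp⟩
  obtain ⟨k, p, e⟩ := s.ev_mem w
  refine ⟨k, p, by rw [e, ev_t], fun x q => ?_⟩
  rw [← e] at a b c
  have := (by decide +kernel : ∀ x, ty x = 2 → x ∈ [8, 16, 32, ad 8 16, ad 8 32, ad 16 32, ad 8 (ad 16 32)]) x q
  simp only [List.mem_cons, List.not_mem_nil, or_false] at this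
  rcases this with rfl | rfl | rfl | rfl | rfl | rfl | rfl <;> simp only [s.add h m, s.add k p, a, b, c]

/-- `Δ = {x | ty x = 5 ∨ ty x = 6}` is a block.  Let `g 64 = 96`.  `g (ty 1)` is a `7`-set invariant under `S₄ = {ev w | ev w 32 = 32}` which misses `96 + Δ`, so it is `ty 1`;
likewise `g (ty 2) = ty 2`.  Hence `g` acts on `A` as a word in `κ`. -/
theorem tr1 (D : ∀ x, Dt H x ↔ 64 ≤ x.1) (m : h ∈ H) (e : Vl h [1, 34, 20, 8, 16, 32, 65]) :
    ∃ g ∈ H, g 64 = 96 ∧ ∀ x, x.1 < 64 → g x = x := by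
  have b0 : ∀ d, Dm 96 d → ∃ k ∈ H, k 64 = d ∧ ∀ x, Dm 96 (k x) = Dm 96 x := fun d p => by
    rcases (by decide +kernel : ∀ d, Dm 96 d → d = 64 ∨ ev (wd d) 65 = d) d p with rfl | q
    · exact ⟨1, one_mem _, rfl, fun _ => rfl⟩
    obtain ⟨k, a, f⟩ := s.ev_mem (wd d)
    refine ⟨k * h, mul_mem a m, by rw [Perm.mul_apply, s.vl m e, f]; exact q, fun x => ?_⟩
    rw [Perm.mul_apply, Dm, s.fix k a (by rw [f, ev_t]), s.vl m e]
    revert x; decide +kernel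
  obtain ⟨g, a, g64⟩ := (D 96).2 (by decide)
  have bl : ∀ y, Dm 96 y → ¬ Dm 96 (g y) := fun y p q => by
    obtain ⟨k, c, k1, k2⟩ := b0 y p
    obtain ⟨k', c', k1', k2'⟩ := b0 _ q
    have := k2' ((k'⁻¹ * g * k) (k⁻¹ 64))
    rw [Dm, Dm, s.fix _ (mul_mem (mul_mem (inv_mem c') a) c) (by simp [k1, ← k1']), ← Dm, ← Dm, ← k2 (k⁻¹ 64)] at this
    simp only [Perm.mul_apply, Perm.coe_inv, apply_symm_apply, g64] at this
    exact absurd this (by decide +kernel)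
  have cl : ∀ i, ∀ z ∈ (Finset.univ.filter (ty · = i)).image g, ob z ⊆ (Finset.univ.filter (ty · = i)).image g := fun i z p y q => by
    obtain ⟨x, p, rfl⟩ := Finset.mem_image.1 p
    obtain ⟨w, r, rfl⟩ := List.mem_map.1 (List.mem_toFinset.1 q)
    obtain ⟨u, u1, u2⟩ := s.stab (w := w.map (· == 1)) a (by rw [g64]; clear q; revert w; decide +kernel) x
    exact Finset.mem_image.2 ⟨u, by simpa [u1] using p, u2⟩
  have im : ∀ {i x}, ty x = i → g x ∈ (Finset.univ.filter (ty · = i)).image g := fun p => Finset.mem_image_of_mem _ (by simpa using p)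
  have t1 : ∀ x, ty x = 1 → ty (g x) = 1 := fun x p => pick (Z := ∅) (Q := fun z => z.1 < 64 ∧ z ≠ 0 ∧ ¬ Dm 96 (ad 96 z)) (R := (ty · = 1))
    (by rw [Finset.card_image_of_injective _ g.injective]; decide +kernel) (cl 1) (fun z q => by
      obtain ⟨y, q, rfl⟩ := Finset.mem_image.1 q
      obtain ⟨q1, q2, q3⟩ := (by decide +kernel : ∀ y, ty y = 1 → ¬ 64 ≤ y.1 ∧ y ≠ 0 ∧ Dm 96 (ad 64 y)) y (by simpa using q)
      refine ⟨lt_of_not_ge (by rwa [← D, Dt_iff a, D]), fun z => q2 (g.injective (z.trans ?_)), by rw [← g64, ← s.add g a]; exact bl _ q3⟩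
      simpa [show ad 0 0 = 0 from rfl, show ∀ y : E, ad y y = 0 from fun y => Fin.ext (Nat.xor_self _)] using (s.add g a 0 0).symm)
    (by decide +kernel) _ (im p)
  have t2 : ∀ x, ty x = 2 → ty (g x) = 2 := fun x p => pick (Z := {32}) (Q := fun z => ty z = 2 ∨ ty z = 4) (R := (ty · = 2))
    (by rw [Finset.card_image_of_injective _ g.injective]; decide +kernel) (cl 2) (fun z q => by
      obtain ⟨y, q, rfl⟩ := Finset.mem_image.1 q
      obtain ⟨u, -, u1, v, -, v1, n, r⟩ := (by decide +kernel : ∀ y, ty y = 2 → ∃ u ∈ [1, 2, 4, 35, 21, 14, 63], ty u = 1 ∧ ∃ v ∈ [1, 2, 4, 35, 21, 14, 63], ty v = 1 ∧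
        (u ≠ v ∧ u ≠ ad u (ad v y) ∧ v ≠ ad u (ad v y)) ∧ ty (ad u (ad v y)) = 1) y (by simpa using q)
      have := (by decide +kernel : ∀ u, ty u = 1 → ∀ v, ty v = 1 → ∀ y, u ≠ v → u ≠ ad u (ad v y) → v ≠ ad u (ad v y) → ty (ad u (ad v y)) = 1 → ty y = 2 ∨ ty y = 4)
        _ (t1 u u1) _ (t1 v v1) (g y)
      simp only [← s.add g a, g.injective.ne_iff] at this
      exact this n.1 n.2.1 n.2.2 (t1 _ r))
    (by decide +kernel) _ (im p)
  obtain ⟨k, c, k64, k2⟩ := s.fixA0 a t2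
  have k' : k⁻¹ 64 = 64 := Perm.inv_eq_iff_eq.2 k64.symm
  have tk := s.fix _ (inv_mem c) k'
  have f2 : ∀ x, ty x = 2 → (g * k⁻¹) x = x := fun x p => by rw [Perm.mul_apply, k2 _ ((tk x).trans p)]; simp
  have f1 : ∀ x, ty x = 1 → ty ((g * k⁻¹) x) = 1 := fun x p => t1 _ ((tk x).trans p)
  have ga := s.add _ (mul_mem a (inv_mem c))
  refine ⟨_, mul_mem a (inv_mem c), by rw [Perm.mul_apply, k', g64], ?_⟩
  generalize g * k⁻¹ = g at f1 f2 ga
  obtain ⟨g1, g2, g4⟩ := (by decide +kernel : ∀ x, ty x = 1 → ∀ y, ty y = 1 → ∀ z, ty z = 1 → ty (ad x (ad y 32)) = 1 → ty (ad x (ad z 16)) = 1 →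
    ty (ad y (ad z 8)) = 1 → x = 1 ∧ y = 2 ∧ z = 4) _ (f1 1 (by decide +kernel)) _ (f1 2 (by decide +kernel)) _ (f1 4 (by decide +kernel))
    (by rw [← f2 32 (by decide +kernel), ← ga, ← ga]; exact f1 _ (by decide +kernel)) (by rw [← f2 16 (by decide +kernel), ← ga, ← ga]; exact f1 _ (by decide +kernel))
    (by rw [← f2 8 (by decide +kernel), ← ga, ← ga]; exact f1 _ (by decide +kernel))
  refine gen7 (fun x y a b => by rw [ga, a, b]) fun x m => ?_
  simp only [List.mem_cons, List.not_mem_nil, or_false] at m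
  rcases m with rfl | rfl | rfl | rfl | rfl | rfl
  exacts [g1, g2, g4, f2 _ (by decide +kernel), f2 _ (by decide +kernel), f2 _ (by decide +kernel)]

end Hs

end Cfsg.Lib.S6.Z
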