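import Mathlib

/-!
# S3133, step 0: the model of `E` (helper15).  See `docs/S62.md`.
`E = Fin 128` with `xor` is `⟨t⟩ × A`, `A` the symmetric `3 × 3` matrices over `𝔽₂` (bits `s₁₁ s₂₂ s₃₃ s₂₃ s₁₃ s₁₂`), `t = 64`.
`ty` is the orbit under `L₃(2) = ⟨κ false, κ true⟩`: `0, b₁, a₂, c₂, b₃, t, t b₁, t a₂, t c₂, t b₃`.
-/

set_option autoImplicit false
set_option maxRecDepth 100000

namespace Cfsg.Lib.S6.Z

open Equiv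

abbrev E : Type := Fin 128

/-- The addition. -/
def ad (x y : E) : E := ⟨x.1 ^^^ y.1, Nat.xor_lt_two_pow (n := 7) x.2 y.2⟩

/-- The orbit. -/
def ty (x : E) : ℕ :=
  0x68898997989999879989989789996887999889978968998786989897988686651334344243444432443443423444133244433442341344323143434243313110
    >>> (4 * x.1) % 16

/-- The generators `S ↦ X S Xᵀ`, `X = (1 2 3)` and `X = 1 + E₁₂`. -/
def κ (b : Bool) (x : E) : E := ⟨cond b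
  0x9d3f6ec952f4e8ad5faf4a54f8f0bd7fefcb56fcf88d1f2e4850f0e0ddbe6ccd5ae4c8eddead4e5ce8d0fdfeedcf5eecd8cd9e2c4c58e0c01c3d6ac142d4a82c5dab4244d8b03c7debc346dcb80c1d2a4040d0a05cbc68c54ac4886cdca9464cc8907cfce9c74ecc984c9c284448c080
  0xfff7df9fdf3d78dfb75e9ddb3568bf76dd9bd72d589f365c99d32548efd79f1edd3970cf971e1cd93160af569d1ad529508f161c18d121407ef5db97cf1d385eb55a95cb15283e74d993c70d181e345891c305086ed59b16cd19304e951a14c911202e549912c509100e141810c10100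
    >>> (7 * x.1) % 128, Nat.mod_lt _ (by decide)⟩

def ev (w : List Bool) (x : E) : E := w.foldr κ x

def rp (i : ℕ) : E := [0, 1, 32, 33, 7, 64, 65, 96, 97, 71].getD i 0

def wd (x : E) : List Bool := (([[], [], [0], [0, 0, 1, 0, 0, 1, 0, 1, 0], [0, 0], [0, 1, 0, 0, 1, 0, 1, 0], [1, 0, 0, 1, 0, 1, 0], [], [0],
  [1, 0, 0, 1, 0, 0, 1], [0], [1, 0, 0, 1, 0, 1, 0, 0, 1], [1, 0, 1, 0, 1, 0, 0, 1, 0], [0, 1], [0, 1, 0], [1, 0, 1, 0], [0, 0],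
  [0, 1, 0, 1, 0, 1, 0, 0, 1, 0], [1, 0, 1, 0, 1], [0, 0, 1], [0, 0], [0, 0, 1, 0], [1, 0, 1, 0, 0, 1, 0, 1], [0, 1, 0, 1, 0], [1, 0],
  [0, 0, 1, 0, 0, 1], [0, 1, 0, 1, 0, 1, 0, 0, 1], [0, 1, 0, 0, 1, 0], [0, 1, 0, 1, 0, 0, 1, 0], [1, 0, 1], [1, 0, 0, 1, 0, 0, 1, 0, 1],
  [1, 0, 0, 1, 0, 1], [], [], [1, 0, 0, 1, 0, 0, 1, 0, 1, 0], [1, 0], [0, 1, 0, 1, 0, 1], [0, 1, 0, 1, 0, 0, 1, 0, 1], [1],
  [0, 0, 1, 0, 1, 0], [0, 0, 1, 0], [1, 0, 1, 0, 1, 0, 0, 1], [1, 0, 1, 0, 0, 1, 0], [1, 0, 1, 0, 1, 0, 1, 0, 0, 1], [0, 1, 0, 0, 1],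
  [1, 0, 0, 1, 0], [0, 0, 1, 0, 1], [0, 0, 1, 0, 0, 1, 0, 1], [0, 1, 0], [0, 0, 1, 0, 1, 0, 0, 1, 0], [1, 0, 0, 1], [0, 1, 0, 1],
  [0, 0, 1, 0, 1, 0, 1, 0, 0, 1], [0, 1, 0, 0, 1, 0, 0, 1, 0, 1], [1, 0, 1, 0, 1, 0], [0, 1, 0, 0, 1, 0, 1], [1, 0, 0, 1, 0],
  [0, 1, 0, 1, 0, 0, 1], [0, 0, 1, 0, 1, 0, 0, 1], [1, 0], [1, 0, 1, 0, 0, 1], [0, 0, 1, 0], [0, 1, 0], [1, 0, 1, 0]] :
    List (List ℕ)).getD (x.1 % 64) []).map (· == 1)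

theorem wd_spec : ∀ x, ev (wd x) (rp (ty x)) = x := by decide +kernel

theorem ty_lt : ∀ x, ty x < 10 := by decide +kernel

theorem ty_low : ∀ x, ty x < 5 ↔ x.1 < 64 := by decide +kernel

theorem κ_low : ∀ b x, (κ b x).1 < 64 ↔ x.1 < 64 := by decide +kernel

theorem ty_eq {x y : E} (h : ty x % 5 = ty y % 5) (e : x.1 < 64 ↔ y.1 < 64) : ty x = ty y := by
  have := ty_lt x; have := ty_lt y; rw [← ty_low, ← ty_low] at e; omega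

/-- The image of `N(E)` in `Aut E`. -/
structure Hs (H : Subgroup (Perm E)) : Prop where
  add : ∀ h ∈ H, ∀ x y, h (ad x y) = ad (h x) (h y)
  fix : ∀ h ∈ H, h 64 = 64 → ∀ x, ty (h x) = ty x
  gen : ∀ b, ∃ h ∈ H, ∀ x, h x = κ b x

/-- The orbit of `t`. -/
def Dt (H : Subgroup (Perm E)) (x : E) : Prop := ∃ h ∈ H, h 64 = x

end Cfsg.Lib.S6.Z
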